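import Mathlib
import Cfsg.Agent.Lib.Core.PCore
import Cfsg.Agent.Lib.Core.MinNormal
import Cfsg.Agent.S0035
import Cfsg.Agent.S0039
import Cfsg.Agent.S0058
import Cfsg.Agent.S0721
import Cfsg.Agent.S0205

/-! Groups in which every element is a `π`-element or a `π'`-element. -/

set_option autoImplicit false

namespace H16.GK

open Subgroup Cfsg

universe u

/-- all prime divisors lie in `π` -/
def PiN (π : Set ℕ) (n : ℕ) : Prop := ∀ p : ℕ, p.Prime → p ∣ n → p ∈ π

/-- no element order has prime divisors both inside and outside `π` -/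
def Dis (π : Set ℕ) (G : Type*) [Group G] : Prop :=
  ∀ (g : G) (p q : ℕ), p.Prime → q.Prime → p ∈ π → q ∉ π → p ∣ orderOf g → q ∣ orderOf g → False

/-- solvability criterion by operator groups -/
def ThmU : Prop := ∀ (A X : Type u) [Group A] [Finite A] [Group X] [Finite X] (φ : A →* MulAut X),
  (∀ (L : Subgroup X) (x : X), x ∈ normalizer (L : Set X) → x * x ∈ L →
    (∀ a, ∃ g : X, (∀ l ∈ L, g * φ a l * g⁻¹ ∈ L) ∧ x⁻¹ * (g * φ a x * g⁻¹) ∈ L) → x ∈ L) →
  Group.IsSolvable X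

variable {π : Set ℕ} {G H : Type*} [Group G] [Group H]

theorem Dis.compl (h : Dis π G) : Dis πᶜ G := fun g p q hp hq a b c d =>
  h g q p hq hp (not_not.1 b) a d c

theorem Dis.inj (h : Dis π G) (f : H →* G) (hf : Function.Injective f) : Dis π H :=
  fun g p q hp hq a b c d => h (f g) p q hp hq a b (by rwa [orderOf_injective f hf])
    (by rwa [orderOf_injective f hf])

theorem Dis.surj (h : Dis π G) (f : G →* H) (hf : Function.Surjective f) : Dis π H := by
  intro g p q hp hq a b c d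
  obtain ⟨g, rfl⟩ := hf g
  exact h g p q hp hq a b (c.trans (orderOf_map_dvd f g)) (d.trans (orderOf_map_dvd f g))

theorem PiN.dvd {m n : ℕ} (h : PiN π n) (e : m ∣ n) : PiN π m := fun p hp d => h p hp (d.trans e)

theorem PiN.coprime {m n : ℕ} (h : PiN π m) (h' : PiN πᶜ n) : m.Coprime n :=
  Nat.coprime_of_dvd fun p hp a b => h' p hp b (h p hp a)

theorem PiN.mul {m n : ℕ} (h : PiN π m) (h' : PiN π n) : PiN π (m * n) := fun p hp d =>
  ((Nat.Prime.dvd_mul hp).1 d).elim (h p hp) (h' p hp)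

theorem Dis.comm [Finite G] (h : Dis π G) {a b : G} (hc : Commute a b) (ha : PiN π (orderOf a))
    (hb : PiN πᶜ (orderOf b)) (a1 : a ≠ 1) (b1 : b ≠ 1) : False := by
  obtain ⟨p, hp, e⟩ := Nat.exists_prime_and_dvd (mt orderOf_eq_one_iff.1 a1)
  obtain ⟨q, hq, e'⟩ := Nat.exists_prime_and_dvd (mt orderOf_eq_one_iff.1 b1)
  have := hc.orderOf_mul_eq_mul_orderOf_of_coprime (ha.coprime hb)
  exact h (a * b) p q hp hq (ha p hp e) (hb q hq e') (this ▸ e.mul_right _) (this ▸ e'.mul_left _)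

theorem piN_prime {p : ℕ} (hp : p.Prime) (h : p ∈ π) : PiN π p := fun _ hq d =>
  (Nat.prime_dvd_prime_iff_eq hq hp).1 d ▸ h

theorem PiN.mem [Finite G] {K : Subgroup G} (h : PiN π (Nat.card K)) {x : G} (hx : x ∈ K) :
    PiN π (orderOf x) := h.dvd (K.orderOf_dvd_natCard hx)

theorem exists_ord [Finite G] {p : ℕ} (hp : p.Prime) (h : p ∣ Nat.card G) :
    ∃ g : G, orderOf g = p ∧ g ≠ 1 := by
  have := Fact.mk hp
  obtain ⟨g, hg⟩ := exists_prime_orderOf_dvd_card' p h
  exact ⟨g, hg, fun e => hp.one_lt.ne (by rw [← hg, e, orderOf_one])⟩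

theorem Dis.cent [Finite G] (h : Dis π G) {K C : Subgroup G} (hK : PiN π (Nat.card K))
    (hC : PiN πᶜ (Nat.card C)) {c : G} (hc : c ∈ C) (c1 : c ≠ 1) : K ⊓ centralizer {c} = ⊥ :=
  eq_bot_iff.2 fun x hx => by
    by_contra x1
    exact h.comm (mem_centralizer_singleton_iff.1 hx.2) (hK.mem hx.1) (hC.mem hc) x1 c1

theorem Dis.frob [Finite G] (h : Dis π G) (K : Subgroup G) [K.Normal] (hK : PiN π (Nat.card K))
    (hi : PiN πᶜ K.index) (h0 : K ≠ ⊥) (h1 : K ≠ ⊤) :
    ∃ C : Subgroup G, IsFrobeniusComplement C ∧ frobeniusKernel C = (K : Set G) := by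
  obtain ⟨C, hC⟩ := exists_right_complement'_of_coprime (hK.coprime hi)
  have e1 : Nat.card C = K.index := hC.symm.index_eq_card.symm
  have hC0 : C ≠ ⊥ := fun e => h1 (index_eq_one.1 (by rw [← e1, e, card_bot]))
  have hF := (Cfsg.Agent.S0039.result K C hC h0 hC0).2 fun c hc c1 => h.cent hK (e1 ▸ hi) hc c1
  obtain ⟨N, hN, -, hNC⟩ := Cfsg.Agent.S0035.result C hF
  refine ⟨C, hF, ?_⟩
  rw [← hN]
  refine congrArg _ (eq_of_le_of_card_ge (fun x hx => ?_) ?_).symm
  · rw [← SetLike.mem_coe, hN]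
    by_contra hx'
    simp only [frobeniusKernel, Set.mem_ofPred_eq, not_or, not_forall, not_not] at hx'
    obtain ⟨x1, g, hg⟩ := hx'
    rw [mem_pointwise_smul_iff_inv_smul_mem] at hg
    have := disjoint_def.1 hC.disjoint
      (show g⁻¹ * x * g⁻¹⁻¹ ∈ K from Normal.conj_mem inferInstance x hx _) (by simpa using hg)
    exact x1 (conj_eq_one_iff.1 this)
  · rw [← hNC.index_eq_card, hC.index_eq_card]

theorem Dis.cyc [Finite G] (h : Dis π G) (f : G →* H) (hf : Function.Surjective f)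
    (hK : PiN π (Nat.card f.ker)) (h0 : f.ker ≠ ⊥) (hH : PiN πᶜ (Nat.card H))
    [IsMulCommutative H] : IsCyclic H := by
  have e0 : f.ker.index = Nat.card H := by
    rw [index_ker, MonoidHom.range_eq_top.2 hf, card_top]
  obtain ⟨C, hC⟩ := exists_right_complement'_of_coprime (N := f.ker) (hK.coprime (e0 ▸ hH))
  have e1 : Nat.card C = Nat.card H := hC.symm.index_eq_card.symm.trans e0
  have hi : Function.Injective (f.comp C.subtype) := (injective_iff_map_eq_one _).2 fun x hx =>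
    Subtype.ext (disjoint_def.1 hC.disjoint hx x.2)
  have : Finite H := Finite.of_surjective f hf
  have hb := (Nat.bijective_iff_injective_and_card _).2 ⟨hi, e1⟩
  have : IsMulCommutative C := ⟨⟨fun a b => hi (by rw [map_mul, map_mul, mul_comm'])⟩⟩
  by_contra hc
  have := Cfsg.Agent.S0058.result C f.ker (fun e => hc (isCyclic_of_surjective _ hb.2))
    (by rw [normalizer_eq_top]; exact le_top) (hK.coprime (e1 ▸ hH)).symm
  apply h0
  rw [← this, eq_bot_iff]
  exact iSup₂_le fun a ha => (h.cent hK (e1 ▸ hH) ha.1 ha.2).le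

theorem Dis.solv {G : Type u} [Group G] [Finite G] (hU : ThmU.{u}) (h : Dis π G) (h2 : 2 ∈ π)
    (M : Subgroup G) [M.Normal] {q : ℕ} (hq : q.Prime) (hπ : q ∉ π) (hd : q ∣ M.index) :
    Group.IsSolvable M := by
  obtain ⟨y, hy, -⟩ := exists_ord (G := G ⧸ M) hq hd
  obtain ⟨y, rfl⟩ := QuotientGroup.mk_surjective y
  refine hU G M MulAut.conjNormal fun L x h1 h3 h4 => ?_
  obtain ⟨g, e1, e2⟩ := h4 y
  have key : ∀ m : M, Odd (orderOf ((m : G) * y)) := fun m => by
    rw [← Nat.not_even_iff_odd, even_iff_two_dvd]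
    refine fun e => h _ 2 q Nat.prime_two hq h2 hπ e ?_
    have := orderOf_map_dvd (QuotientGroup.mk' M) ((m : G) * y)
    rwa [map_mul, QuotientGroup.mk'_apply, (QuotientGroup.eq_one_iff _).2 m.2, one_mul,
      QuotientGroup.mk'_apply, hy] at this
  have hx : (x : G) ∈ normalizer (L.map M.subtype : Set G) := le_normalizer_map _ ⟨x, h1, rfl⟩
  have hh : (g : G) * y ∈ normalizer (L.map M.subtype : Set G) :=
    mem_normalizer_fintype (by
      rintro _ ⟨l, hl, rfl⟩
      exact ⟨_, e1 l hl, by simp [mul_assoc]⟩)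
  let π' := QuotientGroup.mk' ((L.map M.subtype).subgroupOf (normalizer (L.map M.subtype : Set G)))
  have hc : Commute (π' ⟨_, hx⟩) (π' ⟨_, hh⟩) := by
    have : π' ⟨_, hx⟩ = π' (⟨_, hh⟩ * ⟨_, hx⟩ * ⟨_, hh⟩⁻¹) :=
      QuotientGroup.eq.2 ⟨_, e2, by
        show (x : G)⁻¹ * (g * (y * x * y⁻¹) * (g : G)⁻¹) = (x : G)⁻¹ * (g * y * x * (g * y)⁻¹)
        group⟩
    rw [map_mul, map_mul, map_inv, eq_mul_inv_iff_mul_eq] at this
    exact this
  have a1 : π' ⟨_, hh⟩ ^ orderOf ((g : G) * y) = 1 := by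
    rw [← map_pow, show (⟨_, hh⟩ : normalizer _) ^ orderOf ((g : G) * y) = 1 from
      Subtype.ext (pow_orderOf_eq_one _), map_one]
  have a2 : (π' ⟨_, hx⟩ * π' ⟨_, hh⟩) ^ orderOf (((x * g : M) : G) * y) = 1 := by
    rw [← map_mul, ← map_pow, show (⟨_, hx⟩ * ⟨_, hh⟩ : normalizer _) ^
      orderOf (((x * g : M) : G) * y) = 1 from Subtype.ext (by
        rw [coe_mul, mul_assoc]
        exact pow_orderOf_eq_one ((x : G) * (g * y))), map_one]
  have a3 : π' ⟨_, hx⟩ ^ 2 = 1 := by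
    rw [pow_two, ← map_mul]
    exact (QuotientGroup.eq_one_iff _).2 ⟨_, h3, rfl⟩
  have a4 : π' ⟨_, hx⟩ ^ (orderOf (((x * g : M) : G) * y) * orderOf ((g : G) * y)) = 1 := by
    have := congrArg (· ^ orderOf ((g : G) * y)) a2
    simp only [one_pow] at this
    rwa [← pow_mul, hc.mul_pow, pow_mul' (π' ⟨_, hh⟩), a1, one_pow, mul_one] at this
  obtain ⟨k, hk⟩ := (key (x * g)).mul (key g)
  rw [hk, pow_succ, pow_mul, a3, one_pow, one_mul] at a4
  exact (mem_map_iff_mem M.subtype_injective).1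
    (mem_subgroupOf.1 ((QuotientGroup.eq_one_iff (⟨_, hx⟩ : normalizer _)).1 a4))

theorem Dis.simple [Finite G] (h : Dis π G) (h2 : 2 ∈ π) {M : Subgroup G} (hM : H3.IsMinNormal M)
    {q : ℕ} (hq : q.Prime) (hπ : q ∉ π) (hd : q ∣ Nat.card M) (he : 2 ∣ Nat.card M) :
    IsSimpleGroup M := by
  have := hM.normal
  obtain ⟨T, _, m, hT, hm, ⟨e⟩⟩ := Cfsg.Agent.S0721.result M hM.ne_bot hM.eq_bot_or_eq
  have : Finite T := Finite.of_surjective (fun x : M => e x ⟨0, hm⟩) fun t =>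
    ⟨e.symm fun _ => t, by simp⟩
  rw [Nat.card_congr e.toEquiv, Nat.card_fun] at hd he
  obtain ⟨a, ha, -⟩ := exists_ord Nat.prime_two (Nat.prime_two.dvd_of_dvd_pow he)
  obtain ⟨b, hb, -⟩ := exists_ord hq (hq.dvd_of_dvd_pow hd)
  obtain rfl : m = 1 := by
    by_contra hc
    have h1 := (h.inj M.subtype M.subtype_injective).inj e.symm.toMonoidHom e.symm.injective
    refine h1 (fun i => if i = ⟨0, hm⟩ then a else b) 2 q Nat.prime_two hq h2 hπ ?_ ?_
    · simpa [ha] using orderOf_map_dvd (Pi.evalMonoidHom (fun _ : Fin m => T) ⟨0, hm⟩)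
        (fun i => if i = ⟨0, hm⟩ then a else b)
    · simpa [hb, Fin.ext_iff] using orderOf_map_dvd (Pi.evalMonoidHom (fun _ : Fin m => T) ⟨1, by omega⟩)
        (fun i => if i = ⟨0, hm⟩ then a else b)
  exact (e.trans (MulEquiv.funUnique (Fin 1) T)).isSimpleGroup

theorem Dis.cent_pi [Finite G] (h : Dis π G) {M : Subgroup G} (h0 : M ≠ ⊥)
    (hM : PiN πᶜ (Nat.card M)) : PiN πᶜ (Nat.card (centralizer (M : Set G))) := fun p hp d e => by
  obtain ⟨c, hc, c1⟩ := exists_ord hp d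
  obtain ⟨⟨m, hm⟩, m1⟩ := (ne_bot_iff_exists_ne_one).1 h0
  exact h.comm (a := c) (b := m) (c.2 m hm).symm (by rw [orderOf_coe, hc]; exact piN_prime hp e)
    (hM.mem hm) (fun e => c1 (Subtype.ext e)) fun e => m1 (Subtype.ext e)

theorem Dis.even [Finite G] (h : Dis π G) (h2 : 2 ∈ π) (he : 2 ∣ Nat.card G) (M : Subgroup G)
    [M.Normal] [IsMulCommutative M] (h0 : M ≠ ⊥) (hM : PiN πᶜ (Nat.card M)) :
    PiN π (centralizer (M : Set G)).index := by
  have inv : ∀ t : G, orderOf t = 2 → ∀ m ∈ M, t * m * t⁻¹ = m⁻¹ := fun t ht m hm => by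
    have t2 : t * t = 1 := by rw [← pow_two, ← ht, pow_orderOf_eq_one]
    have hm' : t * m * t⁻¹ ∈ M := Normal.conj_mem inferInstance m hm t
    rw [← mul_eq_one_iff_eq_inv']
    by_contra hc
    refine h.comm (a := t) ?_ (ht ▸ piN_prime Nat.prime_two h2) (hM.mem (mul_mem hm hm'))
      (fun e => by simp [e] at ht) hc
    have e : m * (t * m * t⁻¹) = t * m * t⁻¹ * m := setLike_mul_comm hm hm'
    show t * (m * (t * m * t⁻¹)) = m * (t * m * t⁻¹) * t
    conv_lhs => rw [e]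
    simp [← mul_assoc, t2, inv_eq_of_mul_eq_one_right t2]
    simp [mul_assoc, t2]
  obtain ⟨t, ht, t1⟩ := exists_ord Nat.prime_two he
  intro q hq d
  by_contra hπ
  obtain ⟨g, hg, g1⟩ := exists_ord (G := G ⧸ centralizer (M : Set G)) hq d
  obtain ⟨g, rfl⟩ := QuotientGroup.mk_surjective g
  refine (h.surj _ (QuotientGroup.mk'_surjective _)).comm (a := QuotientGroup.mk t) ?_
    ((piN_prime Nat.prime_two h2).dvd (ht ▸ orderOf_map_dvd (QuotientGroup.mk' _) t))
    (hg ▸ piN_prime hq hπ) (fun e => ?_) g1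
  · refine QuotientGroup.eq.2 fun m hm => ?_
    have a := inv t ht m hm
    have c := inv t ht _ (Normal.conj_mem inferInstance m hm g)
    symm
    calc (t * g)⁻¹ * (g * t) * m = g⁻¹ * t⁻¹ * g * (t * m * t⁻¹) * t := by group
      _ = g⁻¹ * t⁻¹ * (g * m * g⁻¹)⁻¹ * g * t := by rw [a]; group
      _ = _ := by rw [← c]; group
  · exact h.cent_pi h0 hM 2 Nat.prime_two
      (ht ▸ orderOf_dvd_natCard _ ((QuotientGroup.eq_one_iff t).1 e)) h2

theorem Dis.cyclic [Finite G] (h : Dis π G) (M : Subgroup G) [M.Normal] [IsCyclic M] :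
    PiN π (centralizer (M : Set G)).index ∨ PiN πᶜ (centralizer (M : Set G)).index := by
  by_contra hc
  simp only [PiN, not_or, not_forall] at hc
  obtain ⟨⟨q, hq, d, hπ⟩, p, hp, d', hπ'⟩ := hc
  obtain ⟨a, ha, a1⟩ := exists_ord (G := G ⧸ centralizer (M : Set G)) hp d'
  obtain ⟨b, hb, b1⟩ := exists_ord (G := G ⧸ centralizer (M : Set G)) hq d
  refine (h.surj _ (QuotientGroup.mk'_surjective _)).comm ?_ (ha ▸ piN_prime hp (not_not.1 hπ'))
    (hb ▸ piN_prime hq hπ) a1 b1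
  obtain ⟨a, rfl⟩ := QuotientGroup.mk_surjective a
  obtain ⟨b, rfl⟩ := QuotientGroup.mk_surjective b
  refine QuotientGroup.eq.2 fun m hm => ?_
  have e : (MulAut.conjNormal ((a * b)⁻¹ * (b * a)) : MulAut M) = 1 :=
    (IsCyclic.mulAutMulEquiv M).injective (by
      simp only [map_mul, map_inv, map_one, mul_comm, mul_inv_cancel])
  have := congrArg (fun f : MulAut M => (f ⟨m, hm⟩ : G)) e
  exact (mul_inv_eq_iff_eq_mul.1 this).symm

theorem card_comap {f : G →* H} (hf : Function.Surjective f) (K : Subgroup H) :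
    Nat.card (K.comap f) = Nat.card f.ker * Nat.card K := by
  have h1 := (f.subgroupComap K).ker.card_mul_index
  rw [index_ker, MonoidHom.range_eq_top.2 (f.subgroupComap_surjective_of_surjective K hf),
    card_top] at h1
  rw [← h1, ← Nat.card_congr (subgroupOfEquivOfLe (f.ker_le_comap K)).toEquiv]
  congr 3
  ext x
  exact Subtype.ext_iff

theorem main {G : Type u} [Group G] [Finite G] (hU : ThmU.{u}) (h : Dis π G) (h2 : 2 ∈ π)
    (he : 2 ∣ Nat.card G) {q : ℕ} (hq : q.Prime) (hπ : q ∉ π) (hd : q ∣ Nat.card G) :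
    (∃ C : Subgroup G, IsFrobeniusComplement C) ∨
    (∃ (H K : Subgroup G) (_ : H.Normal), K.Normal ∧ H < K ∧
      (∃ C : Subgroup K, IsFrobeniusComplement C ∧ frobeniusKernel C = (H.subgroupOf K : Set K)) ∧
      (∃ C : Subgroup (G ⧸ H), IsFrobeniusComplement C ∧
        frobeniusKernel C = (K.map (QuotientGroup.mk' H) : Set (G ⧸ H)))) ∨
    (∃ (N M : Subgroup G) (_ : N.Normal) (_ : M.Normal), N ≤ M ∧ PiN π (Nat.card N) ∧
      PiN π (Nat.card (G ⧸ M)) ∧ IsSimpleGroup (M ⧸ N.subgroupOf M) ∧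
      ¬ IsMulCommutative (M ⧸ N.subgroupOf M)) := by
  obtain ⟨N, _, hN, hO⟩ : ∃ (N : Subgroup G) (_ : N.Normal), PiN π (Nat.card N) ∧
      ∀ K : Subgroup (G ⧸ N), K.Normal → PiN π (Nat.card K) → K = ⊥ :=
    ⟨piCore π G, inferInstance, H1.isPiSubgroup_piCore,
      H1.piCore_eq_bot_iff.1 H1.piCore_quotient_piCore⟩
  have hs := QuotientGroup.mk'_surjective N
  have hk := QuotientGroup.ker_mk' N
  have hH := h.surj _ hs
  have hc := N.card_mul_index
  have hq' : q ∣ Nat.card (G ⧸ N) :=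
    ((Nat.Prime.dvd_mul hq).1 (hc ▸ hd)).resolve_left fun e => hπ (hN q hq e)
  have : Nontrivial (G ⧸ N) :=
    Finite.one_lt_card_iff_nontrivial.1 (hq.one_lt.trans_le (Nat.le_of_dvd Nat.card_pos hq'))
  obtain ⟨M, hM⟩ := H3.exists_isMinNormal (G ⧸ N)
  have := hM.normal
  have hle : ∀ K : Subgroup (G ⧸ N), N ≤ K.comap (QuotientGroup.mk' N) := fun K =>
    QuotientGroup.le_comap_mk' N K
  have hker : ∀ K : Subgroup (G ⧸ N), ((QuotientGroup.mk' N).subgroupComap K).ker =
      N.subgroupOf (K.comap (QuotientGroup.mk' N)) := fun K => by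
    ext x
    exact Subtype.ext_iff.trans (QuotientGroup.eq_one_iff _)
  have hsur := fun K : Subgroup (G ⧸ N) =>
    (QuotientGroup.mk' N).subgroupComap_surjective_of_surjective K hs
  have hcard := fun K : Subgroup (G ⧸ N) => Nat.card_congr (subgroupOfEquivOfLe (hle K)).toEquiv
  by_cases hsol : Group.IsSolvable M
  swap
  · have h3 : ¬ PiN π (Nat.card M) := fun e => hM.ne_bot (hO M this e)
    simp only [PiN, not_forall] at h3
    obtain ⟨r, hr, d, hr'⟩ := h3
    have h4 := hH.simple h2 hM hr hr' d (by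
      by_contra e
      exact hsol (Cfsg.Agent.S0205.result (Nat.odd_iff.2 (by omega))))
    have e := (QuotientGroup.quotientMulEquivOfEq (hker M).symm).trans
      (QuotientGroup.quotientKerEquivOfSurjective _ (hsur M))
    refine Or.inr (Or.inr ⟨N, M.comap (QuotientGroup.mk' N), inferInstance, inferInstance, hle M, hN,
      fun p hp d => ?_, e.isSimpleGroup, fun c => hsol ?_⟩)
    · by_contra e
      exact hsol (hH.solv hU h2 M hp e (by rwa [← index_comap_of_surjective M hs]))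
    · exact Group.isSolvable_of_comm fun a b => e.symm.injective (by rw [map_mul, map_mul, mul_comm'])
  obtain ⟨_, r, hr, d, -, hp⟩ := hM.elementary hsol
  have := Fact.mk hr
  obtain ⟨n, hn⟩ := IsPGroup.iff_card.1 hp
  have h3 : PiN πᶜ (Nat.card M) := fun p hp d e => hM.ne_bot (hO M hM.normal fun s hs d' => by
    rw [hn] at d d'
    rwa [(Nat.prime_dvd_prime_iff_eq hs hr).1 (hs.dvd_of_dvd_pow d'),
      ← (Nat.prime_dvd_prime_iff_eq hp hr).1 (hp.dvd_of_dvd_pow d)])
  have h4 := hH.cent_pi hM.ne_bot h3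
  obtain ⟨K, _, K0, K1, K2⟩ : ∃ (K : Subgroup (G ⧸ N)) (_ : K.Normal), K ≠ ⊥ ∧
      PiN πᶜ (Nat.card K) ∧ PiN π K.index := by
    have c0 : centralizer (M : Set (G ⧸ N)) ≠ ⊥ := fun e =>
      hM.ne_bot (eq_bot_iff.2 (e ▸ le_centralizer M))
    by_cases e : 2 ∣ Nat.card (G ⧸ N)
    · exact ⟨_, inferInstance, c0, h4, hH.even h2 e M hM.ne_bot h3⟩
    have N0 : N ≠ ⊥ := fun e' => e (by
      rw [e', card_bot, one_mul] at hc
      rw [← index_eq_card, e', hc]; exact he)
    have := (h.inj _ (M.comap (QuotientGroup.mk' N)).subtype_injective).cyc _ (hsur M)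
      (by rw [hker, hcard]; exact hN) (by
        rw [hker, ← one_lt_card_iff_ne_bot, hcard]; exact (one_lt_card_iff_ne_bot N).2 N0) h3
    rcases hH.cyclic M with c | c
    · exact ⟨_, inferInstance, c0, h4, c⟩
    · refine ⟨⊤, inferInstance, top_ne_bot, ?_, fun p hp d =>
        absurd (index_top (G := G ⧸ N) ▸ d) hp.not_dvd_one⟩
      rw [card_top, ← (centralizer (M : Set (G ⧸ N))).card_mul_index]
      exact h4.mul c
  by_cases N0 : N = ⊥
  · have a1 : Nat.card (K.comap (QuotientGroup.mk' N)) = Nat.card K := by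
      rw [card_comap hs, hk, card_eq_one.2 N0, one_mul]
    obtain ⟨C, hC, -⟩ := h.compl.frob (K.comap (QuotientGroup.mk' N)) (a1 ▸ K1)
      (by rw [compl_compl, index_comap_of_surjective K hs]; exact K2)
      (by rw [← one_lt_card_iff_ne_bot, a1]; exact (one_lt_card_iff_ne_bot K).2 K0)
      fun e => K1 2 Nat.prime_two (by rw [← a1, e, card_top]; exact he) h2
    exact Or.inl ⟨C, hC⟩
  by_cases K3 : K = ⊤
  · obtain ⟨C, hC, -⟩ := h.frob N hN (by rw [K3, card_top] at K1; exact K1) N0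
      (QuotientGroup.nontrivial_iff.1 inferInstance)
    exact Or.inl ⟨C, hC⟩
  have a2 : N.subgroupOf (K.comap (QuotientGroup.mk' N)) ≠ ⊤ := fun e => K0 (by
    rw [← map_comap_eq_self_of_surjective hs K, Subgroup.map_eq_bot_iff, hk]
    exact subgroupOf_eq_top.1 e)
  refine Or.inr (Or.inl ⟨N, K.comap (QuotientGroup.mk' N), inferInstance, inferInstance,
    lt_of_le_not_ge (hle K) fun e => a2 (subgroupOf_eq_top.2 e), ?_, ?_⟩)
  · refine (h.inj _ (K.comap (QuotientGroup.mk' N)).subtype_injective).frob _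
      (by rw [hcard]; exact hN) ?_ (by
        rw [← one_lt_card_iff_ne_bot, hcard]; exact (one_lt_card_iff_ne_bot N).2 N0) a2
    rw [← hker, index_ker, MonoidHom.range_eq_top.2 (hsur K), card_top]
    exact K1
  · rw [map_comap_eq_self_of_surjective hs]
    exact hH.compl.frob K K1 (by rw [compl_compl]; exact K2) K0 K3

theorem eqns_GKW : True := by
  have := @PiN.eq_1
  have := @PiN.eq_def
  have := @Dis.eq_1.{0}
  have := @Dis.eq_def.{0}
  have := @ThmU.eq_1.{0}
  have := @ThmU.eq_def.{0}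
  trivial

end H16.GK
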